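import Mathlib

/-!
# Arithmetic of torus orders in unitary groups

`blockOrd q D` is the order of the cyclic torus of an irreducible self-dual block of dimension `D`.
-/

set_option autoImplicit false

namespace CfsgLib.Known.PGUOrder

/-- `q ^ D + 1` for odd `D`, `q ^ D - 1` for even `D`. -/
def blockOrd (q D : ℕ) : ℕ := if Odd D then q ^ D + 1 else q ^ D - 1

/-- The bound for a semisimple element on a space of dimension `S`, modulo scalars. -/
def semiBound (q S : ℕ) : ℕ := if S = 1 then 1 else blockOrd q (S - 1)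

theorem blockOrd_odd {q D : ℕ} (h : Odd D) : blockOrd q D = q ^ D + 1 := if_pos h

theorem blockOrd_even {q D : ℕ} (h : Even D) : blockOrd q D = q ^ D - 1 :=
  if_neg (Nat.not_odd_iff_even.2 h)

theorem blockOrd_le {q D : ℕ} : blockOrd q D ≤ q ^ D + 1 := by
  unfold blockOrd; split_ifs <;> omega

theorem blockOrd_pos {q D : ℕ} (hq : 2 ≤ q) (hD : 1 ≤ D) : 0 < blockOrd q D := by
  have := Nat.one_lt_pow (show D ≠ 0 by omega) (show 1 < q by omega)
  unfold blockOrd; split_ifs <;> omega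

theorem add_one_dvd_blockOrd {q D : ℕ} (hq : 1 ≤ q) : q + 1 ∣ blockOrd q D := by
  rcases Nat.even_or_odd D with h | h
  · obtain ⟨j, rfl⟩ := h
    rw [blockOrd_even ⟨j, rfl⟩, ← two_mul, pow_mul]
    refine dvd_trans ?_ (Nat.sub_one_dvd_pow_sub_one (q ^ 2) j)
    exact ⟨q - 1, by rw [← Nat.sq_sub_sq, one_pow]⟩
  · rw [blockOrd_odd h]
    simpa using h.nat_add_dvd_pow_add_pow q 1

/-- Two blocks are dominated by one block of dimension one less and a scalar. -/
theorem merge {q a b : ℕ} (hq : 2 ≤ q) (ha : 1 ≤ a) (hb : 1 ≤ b) :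
    blockOrd q a * blockOrd q b ≤ (q + 1) * blockOrd q (a + b - 1) := by
  obtain ⟨x, rfl⟩ : ∃ x, a = x + 1 := ⟨a - 1, by omega⟩
  obtain ⟨y, rfl⟩ : ∃ y, b = y + 1 := ⟨b - 1, by omega⟩
  rw [show x + 1 + (y + 1) - 1 = x + y + 1 by omega]
  have h1 : 1 ≤ q ^ x := Nat.one_le_pow _ _ (by omega)
  have h2 : 1 ≤ q ^ y := Nat.one_le_pow _ _ (by omega)
  have key : (q ^ x + q ^ y) * q ≤ (q ^ x * q ^ y + 1) * q := by
    refine Nat.mul_le_mul_right _ ?_
    nlinarith
  have hxy : 1 ≤ q ^ (x + y + 1) := Nat.one_le_pow _ _ (by omega)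
  have hx' : 1 ≤ q ^ (x + 1) := Nat.one_le_pow _ _ (by omega)
  have hy' : 1 ≤ q ^ (y + 1) := Nat.one_le_pow _ _ (by omega)
  have e : q ^ (x + y + 1) = q ^ x * q ^ y * q := by rw [pow_succ, pow_add]
  rcases Nat.even_or_odd (x + 1) with hA | hA <;> rcases Nat.even_or_odd (y + 1) with hB | hB
  · rw [blockOrd_even hA, blockOrd_even hB, blockOrd_odd (by rw [Nat.odd_iff]; rw [Nat.even_iff] at hA hB; omega)]
    zify [hx', hy'] at *
    rw [pow_succ, pow_succ, e]
    nlinarith
  · rw [blockOrd_even hA, blockOrd_odd hB,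
      blockOrd_even (by rw [Nat.even_iff] at hA ⊢; rw [Nat.odd_iff] at hB; omega)]
    zify [hx', hy', hxy] at *
    rw [pow_succ, pow_succ, e]
    nlinarith
  · rw [blockOrd_odd hA, blockOrd_even hB,
      blockOrd_even (by rw [Nat.odd_iff] at hA; rw [Nat.even_iff] at hB ⊢; omega)]
    zify [hx', hy', hxy] at *
    rw [pow_succ, pow_succ, e]
    nlinarith
  · rw [blockOrd_odd hA, blockOrd_odd hB, blockOrd_odd (by rw [Nat.odd_iff] at hA hB ⊢; omega)]
    zify at *
    rw [pow_succ, pow_succ, e]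
    nlinarith

/-- The least common multiple of several blocks. -/
theorem lcm_blocks {ι : Type*} {q : ℕ} (hq : 2 ≤ q) (s : Finset ι) (hs : s.Nonempty) (D : ι → ℕ)
    (hD : ∀ i ∈ s, 1 ≤ D i) :
    s.lcm (fun i => blockOrd q (D i)) ≤ blockOrd q (∑ i ∈ s, D i + 1 - s.card) := by
  classical
  induction hs using Finset.Nonempty.cons_induction with
  | singleton a =>
    simp [Finset.lcm_singleton]
  | cons a t hat ht ih =>
    have ih' := ih fun i hi => hD i (Finset.mem_cons_of_mem hi)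
    rw [Finset.cons_eq_insert, Finset.lcm_insert, Finset.sum_insert hat, Finset.card_insert_of_notMem hat]
    have hDa := hD a (Finset.mem_cons_self a t)
    have hcard : t.card ≤ ∑ i ∈ t, D i := by
      rw [Finset.card_eq_sum_ones]
      exact Finset.sum_le_sum fun i hi => hD i (Finset.mem_cons_of_mem hi)
    set L := t.lcm (fun i => blockOrd q (D i))
    have hLdvd : q + 1 ∣ L := by
      obtain ⟨i, hi⟩ := ht
      exact (add_one_dvd_blockOrd (by omega)).trans (Finset.dvd_lcm (f := fun i => blockOrd q (D i)) hi)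
    rcases Nat.eq_zero_or_pos L with h0 | h0
    · rw [h0]; simp
    have hgcd : q + 1 ≤ Nat.gcd (blockOrd q (D a)) L :=
      Nat.le_of_dvd (Nat.gcd_pos_of_pos_right _ h0) (Nat.dvd_gcd (add_one_dvd_blockOrd (by omega)) hLdvd)
    have h1 := Nat.gcd_mul_lcm (blockOrd q (D a)) L
    refine Nat.le_of_mul_le_mul_left ?_ (show 0 < q + 1 by omega)
    calc (q + 1) * GCDMonoid.lcm (blockOrd q (D a)) L
        ≤ blockOrd q (D a) * L := by rw [lcm_eq_nat_lcm, ← h1]; exact Nat.mul_le_mul_right _ hgcd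
      _ ≤ blockOrd q (D a) * blockOrd q (∑ i ∈ t, D i + 1 - t.card) := Nat.mul_le_mul_left _ ih'
      _ ≤ (q + 1) * blockOrd q (D a + (∑ i ∈ t, D i + 1 - t.card) - 1) := merge hq hDa (by omega)
      _ = _ := by congr 2; omega

/-- Several blocks stay below the semisimple bound. -/
theorem lcm_le_semiBound {ι : Type*} {q : ℕ} (hq : 2 ≤ q) (s : Finset ι) (hs : 2 ≤ s.card) (D : ι → ℕ)
    (hD : ∀ i ∈ s, 1 ≤ D i) :
    s.lcm (fun i => blockOrd q (D i)) ≤ semiBound q (∑ i ∈ s, D i) := by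
  have hcard : s.card ≤ ∑ i ∈ s, D i := by
    rw [Finset.card_eq_sum_ones]; exact Finset.sum_le_sum hD
  refine (lcm_blocks hq s (Finset.card_pos.1 (by omega)) D hD).trans ?_
  set S := ∑ i ∈ s, D i
  rw [semiBound, if_neg (by omega)]
  rcases Nat.eq_or_lt_of_le hs with h | h
  · rw [← h, show S + 1 - 2 = S - 1 by omega]
  · refine blockOrd_le.trans ?_
    have h1 : q ^ (S + 1 - s.card) ≤ q ^ (S - 2) := Nat.pow_le_pow_right (by omega) (by omega)
    have h2 : q * q ^ (S - 2) ≤ q ^ (S - 1) := by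
      rw [← pow_succ']; exact Nat.pow_le_pow_right (by omega) (by omega)
    have h3 : q ≤ q ^ (S - 2) := Nat.le_self_pow (by omega) _
    have h4 : 2 * q ^ (S - 2) ≤ q * q ^ (S - 2) := Nat.mul_le_mul_right _ hq
    unfold blockOrd; split_ifs <;> omega

/-- A single block modulo scalars. -/
theorem single_le_semiBound {q S : ℕ} (hq : 2 ≤ q) (hS : 1 ≤ S) (h32 : ¬ (S = 3 ∧ q = 2)) :
    blockOrd q S / (q + 1) ≤ semiBound q S := by
  unfold semiBound
  rcases Nat.eq_or_lt_of_le hS with rfl | hS2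
  · rw [if_pos rfl, blockOrd_odd odd_one, pow_one, Nat.div_self (by omega)]
  rw [if_neg (by omega)]
  refine Nat.le_of_mul_le_mul_right ((Nat.div_mul_le_self _ _).trans ?_) (show 0 < q + 1 by omega)
  obtain ⟨T, rfl⟩ : ∃ T, S = T + 1 := ⟨S - 1, by omega⟩
  rw [show T + 1 - 1 = T by omega]
  have hT : q ≤ q ^ T := Nat.le_self_pow (by omega) _
  rcases Nat.even_or_odd (T + 1) with h | h
  · rw [blockOrd_even h, blockOrd_odd (by rw [Nat.even_iff] at h; rw [Nat.odd_iff]; omega), pow_succ]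
    refine (Nat.sub_le _ _).trans ?_
    nlinarith
  · rw [blockOrd_odd h, blockOrd_even (by rw [Nat.odd_iff] at h; rw [Nat.even_iff]; omega), pow_succ]
    have hT2 : 2 ≤ T := by rw [Nat.odd_iff] at h; omega
    have h4 : q + 2 ≤ q ^ T := by
      have : q ^ 2 ≤ q ^ T := Nat.pow_le_pow_right (by omega) hT2
      nlinarith
    have h5 : (q ^ T - 1) + 1 = q ^ T := by omega
    nlinarith

theorem semiBound_le {q S D : ℕ} (hq : 2 ≤ q) (hS : 1 ≤ S) (hSD : S ≤ D + 1) :
    semiBound q S ≤ q ^ D + 1 := by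
  unfold semiBound
  split_ifs
  · omega
  · exact blockOrd_le.trans (Nat.add_le_add_right (Nat.pow_le_pow_right (by omega) (by omega)) 1)

/-- The final comparison. -/
theorem bound_cases {p f q d S E u : ℕ} (hp : p.Prime) (hf : 1 ≤ f) (hq : q = p ^ f) (hd : 3 ≤ d)
    (h32 : ¬ (d = 3 ∧ q = 2)) (hS : 1 ≤ S) (hE : 1 ≤ E) (hSE : S + E ≤ d + 1)
    (hmin : u = 0 ∨ p ^ (u - 1) < E) :
    semiBound q S * p ^ u ≤ q ^ (d - 1) - 1 ∨ (u = 0 ∧ S = d) ∨ (u = 1 ∧ S = d - 1) ∨
      (p = 2 ∧ u = 2 ∧ S = d - 2) := by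
  have hp2 := hp.two_le
  have hpq : p ≤ q := hq ▸ Nat.le_self_pow (by omega) p
  have hq2 : 2 ≤ q := by omega
  have hpow : ∀ j, 1 ≤ q ^ j := fun j => Nat.one_le_pow _ _ (by omega)
  rcases u with _ | _ | u
  · rw [pow_zero, mul_one]
    rcases Nat.lt_or_ge S d with h | h
    · left
      refine (semiBound_le (D := d - 2) hq2 hS (by omega)).trans ?_
      have e : q ^ (d - 1) = q * q ^ (d - 2) := by rw [← pow_succ']; congr 1; omega
      have hge : q ≤ q ^ (d - 2) := Nat.le_self_pow (by omega) _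
      have h4 : q * q ≤ q * q ^ (d - 2) := Nat.mul_le_mul_left _ hge
      have h5 : 2 * q ^ (d - 2) ≤ q * q ^ (d - 2) := Nat.mul_le_mul_right _ hq2
      omega
    · exact Or.inr (Or.inl ⟨rfl, by omega⟩)
  · have hE2 : 2 ≤ E := by
      rcases hmin with h | h
      · omega
      · simp only [Nat.succ_sub_one, Nat.zero_add, Nat.sub_self, pow_zero] at h
        omega
    rw [pow_one]
    rcases Nat.lt_or_ge (S + E) (d + 1) with h | h
    swap
    · rcases Nat.eq_or_lt_of_le hE2 with h' | h'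
      · exact Or.inr (Or.inr (Or.inl ⟨rfl, by omega⟩))
      all_goals skip
      left
      refine (Nat.mul_le_mul (semiBound_le (D := d - 3) hq2 hS (by omega)) hpq).trans ?_
      obtain ⟨e, rfl⟩ : ∃ e, d = e + 3 := ⟨d - 3, by omega⟩
      rw [show e + 3 - 3 = e by omega, show e + 3 - 1 = e + 2 by omega, pow_succ, pow_succ]
      rcases Nat.eq_zero_or_pos e with rfl | he
      · have : 3 ≤ q := by omega
        simp only [pow_zero, one_mul]
        have h9 : 3 * q ≤ q * q := Nat.mul_le_mul_right _ this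
        omega
      · have hge : q ≤ q ^ e := Nat.le_self_pow (by omega) _
        have h4 : q * q ≤ q ^ e * q := Nat.mul_le_mul_right _ hge
        have h5 : 2 * (q ^ e * q) ≤ q ^ e * q * q := by rw [mul_comm 2]; exact Nat.mul_le_mul_left _ hq2
        rw [add_mul, one_mul]
        have : 2 * q ≤ q * q := Nat.mul_le_mul_right _ hq2
        omega
    · left
      refine (Nat.mul_le_mul (semiBound_le (D := d - 3) hq2 hS (by omega)) hpq).trans ?_
      obtain ⟨e, rfl⟩ : ∃ e, d = e + 3 := ⟨d - 3, by omega⟩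
      rw [show e + 3 - 3 = e by omega, show e + 3 - 1 = e + 2 by omega, pow_succ, pow_succ]
      rcases Nat.eq_zero_or_pos e with rfl | he
      · have : 3 ≤ q := by omega
        simp only [pow_zero, one_mul]
        have h9 : 3 * q ≤ q * q := Nat.mul_le_mul_right _ this
        omega
      · have hge : q ≤ q ^ e := Nat.le_self_pow (by omega) _
        have h4 : q * q ≤ q ^ e * q := Nat.mul_le_mul_right _ hge
        have h5 : 2 * (q ^ e * q) ≤ q ^ e * q * q := by rw [mul_comm 2]; exact Nat.mul_le_mul_left _ hq2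
        rw [add_mul, one_mul]
        have : 2 * q ≤ q * q := Nat.mul_le_mul_right _ hq2
        omega
  · have hE' : p ^ (u + 1) + 1 ≤ E := by
      rcases hmin with h | h
      · omega
      · simpa using h
    have hu2 : u + 2 ≤ p ^ (u + 1) := Nat.lt_pow_self (by omega)
    rcases Nat.lt_or_ge (S + (u + 3)) (d + 1) with h | h
    swap
    · -- no slack at all
      have hE3 : E = u + 3 := by omega
      have hu0 : u = 0 ∧ p = 2 := by
        have h6 : p ^ (u + 1) = u + 2 := by omega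
        rcases Nat.eq_zero_or_pos u with rfl | hu
        · exact ⟨rfl, by simpa using h6⟩
        · exfalso
          have h7 : 2 ^ (u + 1) ≤ p ^ (u + 1) := Nat.pow_le_pow_left hp2 _
          have h8 : u < 2 ^ u := Nat.lt_two_pow_self
          rw [pow_succ] at h7
          omega
      obtain ⟨rfl, rfl⟩ := hu0
      exact Or.inr (Or.inr (Or.inr ⟨rfl, rfl, by omega⟩))
    · left
      have h9 : p ^ (u + 1 + 1) ≤ q ^ (u + 2) := Nat.pow_le_pow_left hpq _
      rcases Nat.eq_or_lt_of_le hS with rfl | hS2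
      · rw [semiBound, if_pos rfl, one_mul]
        have h10 : q ^ (u + 2) < q ^ (d - 1) := Nat.pow_lt_pow_right (by omega) (by omega)
        omega
      refine (Nat.mul_le_mul (semiBound_le (D := d - (u + 4)) hq2 hS (by omega)) h9).trans ?_
      obtain ⟨e, rfl⟩ : ∃ e, d = e + (u + 4) := ⟨d - (u + 4), by omega⟩
      rw [show e + (u + 4) - (u + 4) = e by omega, add_mul, one_mul, ← pow_add,
        show e + (u + 4) - 1 = (e + (u + 2)) + 1 by omega, pow_succ q (e + (u + 2))]
      have h11 : 2 * q ^ (e + (u + 2)) ≤ q ^ (e + (u + 2)) * q := by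
        rw [mul_comm 2]; exact Nat.mul_le_mul_left _ hq2
      have : q ^ (u + 2) < q ^ (e + (u + 2)) := Nat.pow_lt_pow_right (by omega) (by omega)
      omega

end CfsgLib.Known.PGUOrder
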