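import Cfsg.Agent.Lib.Known.PGUOrder.Arith
import Cfsg.Agent.Lib.Known.ClassicalOrderBound
import Cfsg.Agent.Lib.Classical.UnitarySemisimple

/-!
# Element orders modulo scalars in unitary groups: the upper bound

A self-dual polynomial divides `X ^ N - λ` with `N` at most a semisimple bound times a power of `p`.
-/

set_option autoImplicit false

namespace CfsgLib.Known.PGUOrder

open Polynomial CfsgLib.Classical CfsgLib.Classical.SUSemisimple

section Roots

variable {F : Type*} [Field F] [Fintype F] {q : ℕ} (hF : Fintype.card F = q ^ 2) {σ : F →+* F}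
  (hσ : ∀ a, σ a = a ^ q)

include hσ in
theorem root_dual {L : Type*} [Field L] [Algebra F L] (hF : Fintype.card F = q ^ 2) {r : L} (hr : r ≠ 0)
    {g : F[X]} (h : aeval r g = 0) : aeval (r ^ q)⁻¹ (dualPoly σ g) = 0 := by
  obtain ⟨p, hp⟩ := CharP.exists F
  obtain ⟨a, hprime, ha⟩ := FiniteField.card F p
  haveI : Fact p.Prime := ⟨hprime⟩
  haveI : CharP L p := charP_of_injective_algebraMap (algebraMap F L).injective p
  haveI : ExpChar L p := ExpChar.prime hprime
  obtain ⟨j, -, hj⟩ := (Nat.dvd_prime_pow hprime).1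
    (show q ∣ p ^ (a : ℕ) by rw [← ha, hF]; exact dvd_pow_self q two_ne_zero)
  set φ : L →+* L := iterateFrobenius L p j with hφ
  have hφx : ∀ x, φ x = x ^ q := fun x => by rw [hj]; exact iterateFrobenius_def p j x
  have hcomp : φ.comp (algebraMap F L) = (algebraMap F L).comp σ := RingHom.ext fun c => by
    simp [hφx, hσ]
  have h1 : aeval (r ^ q) (g.map σ) = 0 := by
    rw [aeval_def, eval₂_map, ← hcomp, ← hφx, ← hom_eval₂, ← aeval_def, h, map_zero]
  have : Invertible (r ^ q) := invertibleOfNonzero (pow_ne_zero _ hr)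
  rw [dualPoly, map_mul]
  refine mul_eq_zero_of_right _ ?_
  rw [aeval_def, ← invOf_eq_inv (r ^ q), eval₂_reverse_eq_zero_iff, ← aeval_def]
  exact h1

variable {f : F[X]}

include hF in
theorem adjoinRoot_setup (hf : Irreducible f) :
    haveI : Fact (Irreducible f) := ⟨hf⟩
    Module.finrank F (AdjoinRoot f) = f.natDegree ∧ Finite (AdjoinRoot f) := by
  haveI : Fact (Irreducible f) := ⟨hf⟩
  haveI : Module.Finite F (AdjoinRoot f) := (AdjoinRoot.powerBasis hf.ne_zero).finite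
  refine ⟨?_, Module.finite_of_finite F⟩
  rw [(AdjoinRoot.powerBasis hf.ne_zero).finrank, AdjoinRoot.powerBasis_dim]

omit [Fintype F] in
theorem root_ne_zero (hf : Irreducible f) (h0 : f.coeff 0 ≠ 0) :
    haveI : Fact (Irreducible f) := ⟨hf⟩
    AdjoinRoot.root f ≠ 0 := by
  haveI : Fact (Irreducible f) := ⟨hf⟩
  intro h
  have h1 := AdjoinRoot.eval₂_root f
  rw [h, Polynomial.eval₂_at_zero] at h1
  exact h0 ((AdjoinRoot.of f).injective (by rw [h1, map_zero]))

theorem frob_twice {L : Type*} [Field L] (r : L) (Q q i : ℕ) (h : r ^ (Q ^ i) = (r ^ q)⁻¹) :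
    r ^ (Q ^ (i + i)) = r ^ (q * q) := by
  rw [pow_add, pow_mul, h, inv_pow, ← pow_mul, mul_comm, pow_mul, h, inv_pow, inv_inv, ← pow_mul]

include hF in
/-- The roots of a self-dual irreducible factor lie in the norm-one torus. -/
theorem self_dual_root (hf : Irreducible f) (h0 : f.coeff 0 ≠ 0) (hself : dualPoly σ f = f)
    (hσ : ∀ a, σ a = a ^ q) :
    haveI : Fact (Irreducible f) := ⟨hf⟩
    Odd f.natDegree ∧ AdjoinRoot.root f ^ (q ^ f.natDegree + 1) = 1 := by
  haveI : Fact (Irreducible f) := ⟨hf⟩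
  obtain ⟨hfin, hfinite⟩ := adjoinRoot_setup hF hf
  haveI : Module.Finite F (AdjoinRoot f) := (AdjoinRoot.powerBasis hf.ne_zero).finite
  have hk1 : 1 ≤ f.natDegree := hf.natDegree_pos
  have hr0 := root_ne_zero hf h0
  set r : AdjoinRoot f := AdjoinRoot.root f with hr
  set k := f.natDegree with hk
  have hzero : aeval (r ^ q)⁻¹ f = 0 := by
    have h := root_dual hσ hF hr0 (g := f) (by rw [hr, AdjoinRoot.aeval_eq, AdjoinRoot.mk_self])
    exact (congrArg (aeval (r ^ q)⁻¹) hself).symm.trans h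
  let φ : AdjoinRoot f →ₐ[F] AdjoinRoot f := AdjoinRoot.liftAlgHom f (Algebra.ofId F _) (r ^ q)⁻¹ (by
    simpa [aeval_def, Algebra.ofId] using hzero)
  have hφr : φ r = (r ^ q)⁻¹ := AdjoinRoot.liftAlgHom_root _ _ _ _
  obtain ⟨⟨i, hi⟩, hφi⟩ := (FiniteField.bijective_frobeniusAlgHom_pow F (AdjoinRoot f)).2 φ
  simp only at hφi
  rw [hfin] at hi
  have hpow : ∀ j x, (FiniteField.frobeniusAlgHom F (AdjoinRoot f) ^ j) x = x ^ ((q ^ 2) ^ j) := fun j x => by
    simp only [AlgHom.coe_pow, FiniteField.coe_frobeniusAlgHom, pow_iterate, hF]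
  have hri : r ^ ((q ^ 2) ^ i) = (r ^ q)⁻¹ := by rw [← hφr, ← hφi, hpow]
  have hsq : FiniteField.frobeniusAlgHom F (AdjoinRoot f) ^ (i + i) =
      FiniteField.frobeniusAlgHom F (AdjoinRoot f) ^ 1 := by
    refine AdjoinRoot.algHom_ext ?_
    rw [hpow, hpow, pow_one, sq]
    rw [sq] at hri
    exact frob_twice r (q * q) q i hri
  have hmod : i + i ≡ 1 [MOD k] := by
    rw [← hfin, ← FiniteField.orderOf_frobeniusAlgHom F (AdjoinRoot f)]
    exact (orderOf_pos_iff.1 (by rw [FiniteField.orderOf_frobeniusAlgHom, hfin]; omega)).pow_eq_pow_iff_modEq.1 hsq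
  rcases Nat.eq_or_lt_of_le hk1 with hone | htwo
  · refine ⟨hone ▸ odd_one, ?_⟩
    have : i = 0 := by omega
    subst this
    rw [pow_zero, pow_one] at hri
    have h1 : r * r ^ q = 1 := by nth_rw 1 [hri]; exact inv_mul_cancel₀ (pow_ne_zero _ hr0)
    rw [← hone, pow_one, pow_succ']
    exact h1
  · have hi2 : i + i = k + 1 := by
      rw [Nat.ModEq, Nat.mod_eq_of_lt htwo] at hmod
      rcases Nat.lt_or_ge (i + i) k with h | h
      · rw [Nat.mod_eq_of_lt h] at hmod; omega
      · rw [Nat.mod_eq_sub_mod h, Nat.mod_eq_of_lt (by omega)] at hmod; omega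
    refine ⟨by rw [Nat.odd_iff]; omega, ?_⟩
    rw [← pow_mul, show 2 * i = k + 1 by omega, pow_succ, pow_mul] at hri
    have h1 : (r ^ q ^ k * r) ^ q = 1 := by
      rw [mul_pow, hri, inv_mul_cancel₀ (pow_ne_zero _ hr0)]
    rw [pow_succ]
    obtain ⟨p, hp⟩ := CharP.exists F
    obtain ⟨a, hprime, ha⟩ := FiniteField.card F p
    haveI : Fact p.Prime := ⟨hprime⟩
    haveI : CharP (AdjoinRoot f) p := charP_of_injective_algebraMap (algebraMap F (AdjoinRoot f)).injective p
    haveI : ExpChar (AdjoinRoot f) p := ExpChar.prime hprime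
    obtain ⟨j, -, hj⟩ := (Nat.dvd_prime_pow hprime).1
      (show q ∣ p ^ (a : ℕ) by rw [← ha, hF]; exact dvd_pow_self q two_ne_zero)
    refine (iterateFrobenius (AdjoinRoot f) p j).injective ?_
    rw [map_one, iterateFrobenius_def, ← hj, h1]

/-- An element fixed by the norm-one condition is in the ground field. -/
theorem exists_ground {L : Type*} [Field L] [Algebra F L] (hF : Fintype.card F = q ^ 2) {y : L}
    (hy : y ^ (q + 1) = 1) : ∃ c : F, algebraMap F L c = y ∧ c ^ (q + 1) = 1 := by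
  classical
  have hQ : 1 < Fintype.card F := Fintype.one_lt_card
  obtain ⟨g, hg⟩ := IsCyclic.exists_ofOrder_eq_natCard (α := Fˣ)
  rw [Nat.card_units, Nat.card_eq_fintype_card] at hg
  have hp : IsPrimitiveRoot (algebraMap F L g) (Fintype.card F - 1) := by
    refine IsPrimitiveRoot.map_of_injective ?_ (algebraMap F L).injective
    rw [IsPrimitiveRoot.iff_orderOf, orderOf_units, hg]
  haveI : NeZero (Fintype.card F - 1) := ⟨by omega⟩
  obtain ⟨i, -, hi⟩ := hp.eq_pow_of_pow_eq_one (ξ := y) (by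
    rw [hF, show q ^ 2 - 1 = (q + 1) * (q - 1) by rw [← Nat.sq_sub_sq, one_pow], pow_mul, hy, one_pow])
  rw [← map_pow] at hi
  exact ⟨(g : F) ^ i, hi, (algebraMap F L).injective (by rw [map_pow, map_one, hi, hy])⟩

end Roots

section Blocks

variable {F : Type*} [Field F] [Fintype F] {q : ℕ} (hF : Fintype.card F = q ^ 2) {σ : F →+* F}
  (hσ : ∀ a, σ a = a ^ q) (hσσ : ∀ a, σ (σ a) = a)

omit [Fintype F] in
include hσσ in
theorem dual_irreducible {f : F[X]} (hm : f.Monic) (hf : Irreducible f) (h0 : f.coeff 0 ≠ 0) :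
    Irreducible (dualPoly σ f) := by
  refine (irreducible_of_monic (monic_dualPoly σ h0) fun h => ?_).2 fun a b ha hb hab => ?_
  · have := congrArg natDegree h
    rw [natDegree_dualPoly σ h0, natDegree_one] at this
    exact hf.natDegree_pos.ne' this
  · have h0' : (dualPoly σ f).coeff 0 ≠ 0 := by
      rw [coeff_dualPoly σ (Nat.zero_le _), Nat.sub_zero, hm.coeff_natDegree, map_one, mul_one]
      exact inv_ne_zero ((map_ne_zero σ).2 h0)
    rw [← hab, mul_coeff_zero] at h0'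
    have ha0 := left_ne_zero_of_mul h0'
    have hb0 := right_ne_zero_of_mul h0'
    have h1 : f = dualPoly σ a * dualPoly σ b := by
      rw [← dualPoly_mul, hab, dualPoly_dualPoly σ hσσ hm h0]
    refine (hf.isUnit_or_isUnit h1).imp (fun hu => ?_) fun hu => ?_
    · exact ha.eq_one_of_isUnit (isUnit_iff_degree_eq_zero.2 (by
        rw [degree_eq_natDegree ha.ne_zero, ← natDegree_dualPoly σ ha0, natDegree_eq_zero_of_isUnit hu,
          Nat.cast_zero]))
    · exact hb.eq_one_of_isUnit (isUnit_iff_degree_eq_zero.2 (by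
        rw [degree_eq_natDegree hb.ne_zero, ← natDegree_dualPoly σ hb0, natDegree_eq_zero_of_isUnit hu,
          Nat.cast_zero]))

include hσ in
theorem dvd_of_self {f : F[X]} (hF : Fintype.card F = q ^ 2) (hf : Irreducible f) (h0 : f.coeff 0 ≠ 0)
    (hself : dualPoly σ f = f) :
    f ∣ X ^ blockOrd q f.natDegree - 1 ∧
      ∃ c : F, c ^ (q + 1) = 1 ∧ f ∣ X ^ (blockOrd q f.natDegree / (q + 1)) - C c := by
  haveI : Fact (Irreducible f) := ⟨hf⟩
  obtain ⟨hodd, hr⟩ := self_dual_root hF hf h0 hself hσ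
  rw [blockOrd_odd hodd]
  refine ⟨?_, ?_⟩
  · rw [← AdjoinRoot.mk_eq_zero, map_sub, map_pow, AdjoinRoot.mk_X, map_one, sub_eq_zero]
    exact hr
  obtain ⟨c, hc, hc1⟩ := exists_ground (F := F) hF
    (y := AdjoinRoot.root f ^ ((q ^ f.natDegree + 1) / (q + 1))) (by
      rw [← pow_mul, Nat.div_mul_cancel (by simpa using hodd.nat_add_dvd_pow_add_pow q 1), hr])
  refine ⟨c, hc1, ?_⟩
  rw [← AdjoinRoot.mk_eq_zero, map_sub, map_pow, AdjoinRoot.mk_X, AdjoinRoot.mk_C, sub_eq_zero]
  exact hc.symm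

omit [Fintype F] in
theorem dvd_of_root {g h : F[X]} (hg : Irreducible g) [Fact (Irreducible g)]
    (H : aeval (AdjoinRoot.root g) h = 0) : g ∣ h := by
  rwa [AdjoinRoot.aeval_eq, AdjoinRoot.mk_eq_zero] at H

include hσ hσσ in
theorem dvd_of_pair {f : F[X]} (hF : Fintype.card F = q ^ 2) (hm : f.Monic) (hf : Irreducible f)
    (h0 : f.coeff 0 ≠ 0) :
    f ∣ X ^ blockOrd q (2 * f.natDegree) - 1 ∧
      ∃ c : F, c ^ (q + 1) = 1 ∧ f ∣ X ^ (blockOrd q (2 * f.natDegree) / (q + 1)) - C c ∧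
        dualPoly σ f ∣ X ^ (blockOrd q (2 * f.natDegree) / (q + 1)) - C c := by
  have hg := dual_irreducible hσσ hm hf h0
  haveI : Fact (Irreducible f) := ⟨hf⟩
  haveI : Fact (Irreducible (dualPoly σ f)) := ⟨hg⟩
  have hev : Even (2 * f.natDegree) := ⟨f.natDegree, two_mul _⟩
  have hdvd : q + 1 ∣ blockOrd q (2 * f.natDegree) := add_one_dvd_blockOrd (by
    rcases Nat.eq_zero_or_pos q with rfl | h
    · simp at hF
    · exact h)
  rw [blockOrd_even hev] at hdvd ⊢
  have h0e : f.eval 0 ≠ 0 := by rwa [← coeff_zero_eq_eval_zero]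
  have hdiv : f ∣ X ^ (q ^ (2 * f.natDegree) - 1) - 1 := by
    rw [pow_mul, ← hF]
    exact Known.ClassicalOrderBound.dvd_X_pow_sub hf hm h0e
  refine ⟨hdiv, ?_⟩
  rw [← AdjoinRoot.mk_eq_zero, map_sub, map_pow, AdjoinRoot.mk_X, map_one, sub_eq_zero] at hdiv
  obtain ⟨c, hc, hc1⟩ := exists_ground (F := F) hF
    (y := AdjoinRoot.root f ^ ((q ^ (2 * f.natDegree) - 1) / (q + 1))) (by
      rw [← pow_mul, Nat.div_mul_cancel hdvd, hdiv])
  set N := (q ^ (2 * f.natDegree) - 1) / (q + 1) with hN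
  have hfN : f ∣ X ^ N - C c := by
    rw [← AdjoinRoot.mk_eq_zero, map_sub, map_pow, AdjoinRoot.mk_X, AdjoinRoot.mk_C, sub_eq_zero]
    exact hc.symm
  refine ⟨c, hc1, hfN, dvd_of_root hg ?_⟩
  have h00 : (dualPoly σ f).coeff 0 ≠ 0 := by
    rw [coeff_dualPoly σ (Nat.zero_le _), Nat.sub_zero, hm.coeff_natDegree, map_one, mul_one]
    exact inv_ne_zero ((map_ne_zero σ).2 h0)
  have hr0 := root_ne_zero hg h00
  set r := AdjoinRoot.root (dualPoly σ f) with hr
  have hroot : aeval (r ^ q)⁻¹ f = 0 := by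
    have h := root_dual hσ hF hr0 (g := dualPoly σ f) (by rw [hr, AdjoinRoot.aeval_eq, AdjoinRoot.mk_self])
    exact (congrArg (aeval (r ^ q)⁻¹) (dualPoly_dualPoly σ hσσ hm h0)).symm.trans h
  obtain ⟨R, hR⟩ := hfN
  have h1 := congrArg (aeval (r ^ q)⁻¹) hR
  rw [map_mul, hroot, zero_mul, map_sub, map_pow, aeval_X, aeval_C, sub_eq_zero, inv_pow, ← pow_mul,
    mul_comm, pow_mul, inv_eq_iff_eq_inv] at h1
  have hc0 : c ≠ 0 := by rintro rfl; rw [zero_pow (by omega)] at hc1; exact zero_ne_one hc1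
  have h2 : algebraMap F (AdjoinRoot (dualPoly σ f)) (c⁻¹) = (r ^ N) ^ q := by rw [map_inv₀, h1]
  have h3 : c⁻¹ = σ c := by
    rw [hσ]; exact inv_eq_of_mul_eq_one_right (by rw [← pow_succ']; exact hc1)
  obtain ⟨p, hp⟩ := CharP.exists F
  obtain ⟨a, hprime, ha⟩ := FiniteField.card F p
  haveI : Fact p.Prime := ⟨hprime⟩
  haveI : CharP (AdjoinRoot (dualPoly σ f)) p :=
    charP_of_injective_algebraMap (algebraMap F (AdjoinRoot (dualPoly σ f))).injective p
  haveI : ExpChar (AdjoinRoot (dualPoly σ f)) p := ExpChar.prime hprime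
  obtain ⟨j, -, hj⟩ := (Nat.dvd_prime_pow hprime).1
    (show q ∣ p ^ (a : ℕ) by rw [← ha, hF]; exact dvd_pow_self q two_ne_zero)
  rw [map_sub, map_pow, aeval_X, aeval_C, sub_eq_zero]
  refine (iterateFrobenius (AdjoinRoot (dualPoly σ f)) p j).injective ?_
  rw [iterateFrobenius_def, iterateFrobenius_def, ← hj, ← h2, h3, hσ, map_pow]

include hσ hσσ in
/-- A self-dual polynomial divides `X ^ N - c` with the exponent of a semisimple element times a power of `p`. -/
theorem poly_bound {p : ℕ} [Fact p.Prime] [CharP F p] {d : ℕ} (hF : Fintype.card F = q ^ 2) (hd : 1 ≤ d)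
    (hx : ¬ (d = 3 ∧ q = 2)) (hd3 : 3 ≤ d)
    {P : F[X]} (hP : P.Monic) (hdeg : P.natDegree = d) (h0 : P.coeff 0 ≠ 0) (hself : dualPoly σ P = P) :
    ∃ (N S E u : ℕ) (c : F), 0 < N ∧ 1 ≤ S ∧ 1 ≤ E ∧ S + E ≤ d + 1 ∧ (u = 0 ∨ p ^ (u - 1) < E) ∧
      (N ≤ semiBound q S * p ^ u ∨ N ≤ q ^ (d - 1) - 1) ∧ P ∣ X ^ N - C c := by
  classical
  have hq : 2 ≤ q := two_le_q hF
  have hp := (Fact.out : p.Prime)
  set M := UniqueFactorizationMonoid.normalizedFactors P with hM
  have hprod : M.prod = P :=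
    (UniqueFactorizationMonoid.prod_normalizedFactors_eq hP.ne_zero).trans hP.normalize_eq_self
  have hmem : ∀ f ∈ M, Irreducible f ∧ f.Monic ∧ f.coeff 0 ≠ 0 := fun f hf => by
    have hi := UniqueFactorizationMonoid.irreducible_of_normalized_factor f hf
    refine ⟨hi, ?_, fun h => h0 ?_⟩
    · rw [← UniqueFactorizationMonoid.normalize_normalized_factor f hf]
      exact monic_normalize hi.ne_zero
    · obtain ⟨g, hg⟩ : f ∣ P := hprod ▸ Multiset.dvd_prod hf
      rw [hg, mul_coeff_zero, h, zero_mul]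
  have hmapprod : ∀ t : Multiset F[X], (t.map (dualPoly σ)).prod = dualPoly σ t.prod := fun t => by
    induction t using Multiset.induction with
    | empty =>
      simp only [Multiset.map_zero, Multiset.prod_zero, dualPoly, coeff_one_zero, map_one, inv_one, one_mul,
        Polynomial.map_one]
      rw [← C_1, reverse_C]
    | cons a t ih => rw [Multiset.map_cons, Multiset.prod_cons, Multiset.prod_cons, dualPoly_mul, ih]
  have hdual : M.map (dualPoly σ) = M := by
    have hrel : Multiset.Rel Associated (M.map (dualPoly σ)) M := by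
      refine UniqueFactorizationMonoid.factors_unique (fun g hg => ?_) (fun f hf => (hmem f hf).1) ?_
      · obtain ⟨f, hf, rfl⟩ := Multiset.mem_map.1 hg
        exact dual_irreducible hσσ (hmem f hf).2.1 (hmem f hf).1 (hmem f hf).2.2
      · rw [hmapprod, hprod, hself]
        exact Associated.refl P
    refine Multiset.rel_eq.1 (hrel.mono fun a ha b hb hab => ?_)
    obtain ⟨f, hf, rfl⟩ := Multiset.mem_map.1 ha
    exact eq_of_monic_of_associated (monic_dualPoly σ (hmem f hf).2.2) (hmem b hb).2.1 hab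
  set s := M.toFinset with hs
  have hsM : ∀ f, f ∈ s ↔ f ∈ M := fun f => Multiset.mem_toFinset
  have hsd : ∀ f ∈ s, dualPoly σ f ∈ s := fun f hf => by
    rw [hsM, ← hdual]; exact Multiset.mem_map_of_mem _ ((hsM f).1 hf)
  have hdd : ∀ f ∈ s, dualPoly σ (dualPoly σ f) = f := fun f hf =>
    dualPoly_dualPoly σ hσσ (hmem f ((hsM f).1 hf)).2.1 (hmem f ((hsM f).1 hf)).2.2
  let blk : F[X] → Finset F[X] := fun f => {f, dualPoly σ f}
  have hblk : ∀ f ∈ s, s.filter (fun g => blk g = blk f) = blk f := fun f hf => by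
    ext g
    simp only [Finset.mem_filter, blk, Finset.mem_insert, Finset.mem_singleton]
    refine ⟨fun h => ?_, ?_⟩
    · have : g ∈ ({g, dualPoly σ g} : Finset F[X]) := Finset.mem_insert_self _ _
      rw [h.2] at this
      simpa using this
    · rintro (rfl | rfl)
      · exact ⟨hf, rfl⟩
      · exact ⟨hsd f hf, by rw [hdd f hf, Finset.pair_comm]⟩
  set Ps := s.image blk with hPs
  let D : Finset F[X] → ℕ := fun b => ∑ g ∈ s.filter (fun g => blk g = b), g.natDegree
  set S := ∑ f ∈ s, f.natDegree with hS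
  have hSP : ∑ b ∈ Ps, D b = S :=
    Finset.sum_fiberwise_of_maps_to (fun f hf => Finset.mem_image_of_mem _ hf) _
  have hD : ∀ f ∈ s, 1 ≤ D (blk f) ∧ f ∣ X ^ blockOrd q (D (blk f)) - 1 ∧
      ∃ c : F, c ^ (q + 1) = 1 ∧ ∀ g ∈ blk f, g ∣ X ^ (blockOrd q (D (blk f)) / (q + 1)) - C c := by
    intro f hf
    obtain ⟨hi, hfm, hf0⟩ := hmem f ((hsM f).1 hf)
    have hdg : (dualPoly σ f).natDegree = f.natDegree := natDegree_dualPoly σ hf0
    have hDe : D (blk f) = ∑ g ∈ blk f, g.natDegree := by simp only [D]; rw [hblk f hf]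
    by_cases hsf : dualPoly σ f = f
    · have hb : blk f = {f} := by simp [blk, hsf]
      rw [hDe, hb, Finset.sum_singleton]
      obtain ⟨h1, c, hc, h2⟩ := dvd_of_self hσ hF hi hf0 hsf
      exact ⟨hi.natDegree_pos, h1, c, hc, fun g hg => by rw [Finset.mem_singleton] at hg; rwa [hg]⟩
    · rw [hDe, Finset.sum_pair (fun h => hsf h.symm), hdg, ← two_mul]
      obtain ⟨h1, c, hc, h2, h3⟩ := dvd_of_pair hσ hσσ hF hfm hi hf0
      refine ⟨by have := hi.natDegree_pos; omega, h1, c, hc, fun g hg => ?_⟩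
      rcases Finset.mem_insert.1 hg with rfl | hg
      · exact h2
      · rw [Finset.mem_singleton] at hg; rwa [hg]
  have hne : s.Nonempty := by
    rw [Finset.nonempty_iff_ne_empty]
    intro h
    rw [hs, Multiset.toFinset_eq_empty] at h
    rw [h, Multiset.prod_zero] at hprod
    rw [← hprod, natDegree_one] at hdeg
    omega
  set E := s.sup fun f => M.count f with hE
  obtain ⟨f₁, hf₁, hf₁E⟩ : ∃ f ∈ s, E = M.count f := Finset.exists_mem_eq_sup s hne _
  have hE1 : 1 ≤ E := hf₁E ▸ Multiset.one_le_count_iff_mem.2 ((hsM f₁).1 hf₁)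
  have hdsum : d = ∑ f ∈ s, M.count f * f.natDegree := by
    rw [← hdeg, ← hprod, natDegree_multiset_prod_of_monic _ fun f hf => (hmem f hf).2.1,
      Finset.sum_multiset_map_count]
    rfl
  have hSE : S + E ≤ d + 1 := by
    rw [hdsum, hS, ← Finset.add_sum_erase _ _ hf₁, ← Finset.add_sum_erase _ _ hf₁]
    have h1 : ∑ f ∈ s.erase f₁, f.natDegree ≤ ∑ f ∈ s.erase f₁, M.count f * f.natDegree :=
      Finset.sum_le_sum fun f hf => Nat.le_mul_of_pos_left _
        (Multiset.count_pos.2 ((hsM f).1 (Finset.mem_of_mem_erase hf)))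
    have h2 := (hmem f₁ ((hsM f₁).1 hf₁)).1.natDegree_pos
    rw [hf₁E]
    obtain ⟨a, ha⟩ : ∃ a, M.count f₁ = a + 1 := ⟨E - 1, by omega⟩
    rw [ha, Nat.succ_mul]
    have := Nat.le_mul_of_pos_right a h2
    omega
  have hS1 : 1 ≤ S := by
    rw [hS, ← Finset.add_sum_erase _ _ hf₁]
    have := (hmem f₁ ((hsM f₁).1 hf₁)).1.natDegree_pos
    omega
  have hex : ∃ u, E ≤ p ^ u := ⟨E, (Nat.lt_pow_self hp.one_lt).le⟩
  set u := Nat.find hex with hu
  have humin : u = 0 ∨ p ^ (u - 1) < E := by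
    rcases Nat.eq_zero_or_pos u with h | h
    · exact Or.inl h
    · exact Or.inr (not_le.1 (Nat.find_min hex (show u - 1 < u by omega)))
  have hdvd : ∀ (L : ℕ) (c : F), (∀ f ∈ s, f ∣ X ^ L - C c) → P ∣ X ^ (L * p ^ u) - C (c ^ p ^ u) := by
    intro L c hL
    rw [show (X : F[X]) ^ (L * p ^ u) - C (c ^ p ^ u) = (X ^ L - C c) ^ p ^ u by
      rw [sub_pow_char_pow, ← pow_mul, C_pow]]
    rw [← hprod, Finset.prod_multiset_count]
    refine Finset.prod_dvd_of_coprime (fun a ha b hb hab => IsCoprime.pow ?_) fun f hf => ?_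
    · obtain ⟨hai, ham, -⟩ := hmem a ((hsM a).1 ha)
      obtain ⟨hbi, hbm, -⟩ := hmem b ((hsM b).1 hb)
      exact (hai.coprime_iff_not_dvd).2 fun h => hab (eq_of_monic_of_associated ham hbm
        (hai.associated_of_dvd hbi h))
    · exact (pow_dvd_pow _ ((Finset.le_sup (f := fun f => M.count f) hf).trans (Nat.find_spec hex))).trans
        (pow_dvd_pow_of_dvd (hL f hf) _)
  rcases Nat.lt_or_ge Ps.card 2 with hcard | hcard
  · -- one block
    obtain ⟨hD1, -, c, -, hcf⟩ := hD f₁ hf₁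
    have hone : ∀ f ∈ s, blk f = blk f₁ := fun f hf =>
      Finset.card_le_one.1 (show Ps.card ≤ 1 by omega) _ (Finset.mem_image_of_mem _ hf) _ (Finset.mem_image_of_mem _ hf₁)
    have hDS : D (blk f₁) = S := by
      simp only [D, hS]
      rw [Finset.filter_true_of_mem hone]
    rw [hDS] at hcf
    refine ⟨blockOrd q S / (q + 1) * p ^ u, S, E, u, c ^ p ^ u, ?_, hS1, hE1, hSE, humin, ?_,
      hdvd _ c fun f hf => hcf f (hone f hf ▸ Finset.mem_insert_self _ _)⟩
    · refine Nat.mul_pos (Nat.div_pos (Nat.le_of_dvd (blockOrd_pos hq hS1) (add_one_dvd_blockOrd (by omega)))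
        (by omega)) (pow_pos hp.pos _)
    by_cases h32 : S = 3 ∧ q = 2
    · -- the torus of order three in dimension three
      obtain ⟨hS3, hq2⟩ := h32
      subst hq2
      refine Or.inr ?_
      rw [hS3, show blockOrd 2 3 / (2 + 1) = 3 from rfl]
      have hd4 : 4 ≤ d := by omega
      rcases Nat.eq_zero_or_pos u with hu0 | hu1
      · rw [hu0, pow_zero]
        have : 2 ^ 3 ≤ 2 ^ (d - 1) := Nat.pow_le_pow_right (by omega) (by omega)
        omega
      rcases humin with h | h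
      · omega
      have hp2 : p = 2 := by
        obtain ⟨a, hpr, ha⟩ := FiniteField.card F p
        rw [hF] at ha
        exact (Nat.prime_dvd_prime_iff_eq hp Nat.prime_two).1
          (hp.dvd_of_dvd_pow (ha ▸ dvd_pow_self p a.pos.ne' : p ∣ 2 ^ 2))
      subst hp2
      have hpu : u - 1 < 2 ^ (u - 1) := Nat.lt_two_pow_self
      have hexp : 2 ^ (u + 2) ≤ 2 ^ (d - 1) := Nat.pow_le_pow_right (by omega) (by omega)
      have h4 : 2 ^ (u + 2) = 4 * 2 ^ u := by ring
      have : 1 ≤ 2 ^ u := Nat.one_le_pow _ _ (by omega)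
      omega
    · exact Or.inl (Nat.mul_le_mul_right _ (single_le_semiBound hq hS1 h32))
  · -- several blocks
    set L := Ps.lcm fun b => blockOrd q (D b)
    have hPD : ∀ b ∈ Ps, 1 ≤ D b := fun b hb => by
      obtain ⟨f, hf, rfl⟩ := Finset.mem_image.1 hb
      exact (hD f hf).1
    have hL0 : 0 < L := Nat.pos_of_ne_zero fun h => by
      obtain ⟨b, hb, hb0⟩ := Finset.lcm_eq_zero_iff.1 h
      exact (blockOrd_pos hq (hPD b hb)).ne' hb0
    refine ⟨L * p ^ u, S, E, u, 1, Nat.mul_pos hL0 (pow_pos hp.pos _), hS1, hE1, hSE, humin,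
      Or.inl (Nat.mul_le_mul_right _ (hSP ▸ lcm_le_semiBound hq Ps hcard D hPD)), ?_⟩
    have h := hdvd L 1 fun f hf => by
      rw [map_one]
      refine (hD f hf).2.1.trans ?_
      obtain ⟨e, he⟩ : blockOrd q (D (blk f)) ∣ L :=
        Finset.dvd_lcm (f := fun b => blockOrd q (D b)) (Finset.mem_image_of_mem _ hf)
      rw [he, pow_mul]
      exact sub_one_dvd_pow_sub_one _ _
    rwa [one_pow] at h

end Blocks

end CfsgLib.Known.PGUOrder
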