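import Cfsg.Agent.Lib.KnownSimple.Unitary.Construct
import Cfsg.Agent.Lib.Classical.UnitarySemisimple

/-!
# Elements of large order modulo scalars in unitary groups
-/

set_option autoImplicit false

namespace CfsgLib.Known.PGUOrder

open Matrix Cfsg CfsgLib.Classical CfsgLib.UnitarySpec

variable {F : Type*} [Field F] [Fintype F] {q : ℕ} (hF : Fintype.card F = q ^ 2) {σ : F ≃+* F}
  (hσ : ∀ a, σ a = a ^ q)

/-- The matrix of a unitary element. -/
abbrev guMat (n : ℕ) (F : Type*) [Field F] (q : ℕ) : Cfsg.GU n F q →* Matrix (Fin n) (Fin n) F :=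
  (Units.coeHom _).comp (Cfsg.GU n F q).subtype

omit [Fintype F] in
theorem guMat_injective (n : ℕ) : Function.Injective (guMat n F q) :=
  Units.val_injective.comp Subtype.val_injective

include hF in
theorem exists_gu_of_starQ {n : ℕ} (M : Matrix (Fin n) (Fin n) F) (h : GUConj.starQ q M * M = 1) :
    ∃ g : Cfsg.GU n F q, guMat n F q g = M ∧ orderOf g = orderOf M := by
  obtain ⟨u, rfl⟩ : IsUnit M := IsUnit.of_mul_eq_one_right _ h
  exact ⟨⟨u, (GUConj.mem_gu_iff_starQ hF u).2 h⟩, rfl, (orderOf_injective (guMat n F q) (guMat_injective n) _).symm⟩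

include hF hσ in
theorem exists_gu_of_isU {n : ℕ} (M : Matrix (Fin n) (Fin n) F) (h : IsU σ 1 M) :
    ∃ g : Cfsg.GU n F q, guMat n F q g = M ∧ orderOf g = orderOf M := by
  refine exists_gu_of_starQ hF M ?_
  have h2 := (isU_one_iff (sigma_sigma hF hσ) M).1 h
  rw [adj] at h2
  rwa [show GUConj.starQ q M = (M.map σ)ᵀ by ext i j; simp [GUConj.starQ, hσ]]

include hF hσ in
/-- The norm-one torus of an odd-dimensional unitary group. -/
theorem exists_torus {n : ℕ} (hn : Odd n) : ∃ g : Cfsg.GU n F q, orderOf g = q ^ n + 1 := by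
  classical
  obtain ⟨k, hk⟩ := hn
  have hq := two_le_q hF
  haveI : NeZero n := ⟨by omega⟩
  obtain ⟨p, hp⟩ := CharP.exists F
  haveI : Fact p.Prime := ⟨CharP.char_is_prime F p⟩
  let L := FiniteField.Extension F p n
  letI : Fintype L := Fintype.ofFinite _
  have hfr : Module.finrank F L = n := FiniteField.finrank_extension F p n
  have hcardL : Fintype.card L = q ^ (2 * n) := by
    rw [← Nat.card_eq_fintype_card, FiniteField.natCard_extension F p n, Nat.card_eq_fintype_card, hF, ← pow_mul]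
  obtain ⟨s, hs⟩ : ∃ s : ℕ, q ^ n = p ^ s := by
    obtain ⟨f, -, hf⟩ := FiniteField.card F p
    rw [hF] at hf
    obtain ⟨j, -, hj⟩ := (Nat.dvd_prime_pow Fact.out).1 (hf ▸ dvd_pow_self q two_ne_zero : q ∣ p ^ (f : ℕ))
    exact ⟨j * n, by rw [hj, pow_mul]⟩
  haveI : CharP L p := charP_of_injective_algebraMap (algebraMap F L).injective p
  haveI : ExpChar L p := ExpChar.prime Fact.out
  let τ : L →+* L := iterateFrobenius L p s
  have hτ : ∀ x : L, τ x = x ^ q ^ n := fun x => by rw [iterateFrobenius_def, hs]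
  have hττ : ∀ x : L, τ (τ x) = x := fun x => by
    rw [hτ, hτ, ← pow_mul, ← pow_add, ← two_mul, ← hcardL, FiniteField.pow_card]
  have hτσ : ∀ c : F, τ (algebraMap F L c) = algebraMap F L (σ c) := fun c => by
    rw [hτ, ← map_pow, show q ^ n = q ^ (2 * k + 1) from congrArg _ hk, pow_pow_odd hF hσ]
  have htr : ∀ y : L, σ (Algebra.trace F L y) = Algebra.trace F L (τ y) := fun y => by
    apply (algebraMap F L).injective
    rw [← hτσ, FiniteField.algebraMap_trace_eq_sum_pow, FiniteField.algebraMap_trace_eq_sum_pow, map_sum]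
    exact Finset.sum_congr rfl fun i _ => map_pow τ y _
  let B : L →ₛₗ[(σ : F →+* F)] L →ₗ[F] F :=
    LinearMap.mk₂'ₛₗ (σ : F →+* F) (RingHom.id F) (fun u v => Algebra.trace F L (v * τ u))
      (fun u u' v => by rw [map_add, mul_add, map_add])
      (fun c u v => by
        rw [Algebra.smul_def, map_mul τ, hτσ, ← mul_assoc, mul_comm v, mul_assoc, ← Algebra.smul_def, map_smul]; rfl)
      (fun u v v' => by rw [add_mul, map_add])
      (fun c u v => by rw [Algebra.smul_mul_assoc, map_smul]; rfl)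
  have hB : ∀ u v, B u v = Algebra.trace F L (v * τ u) := fun _ _ => rfl
  have hsym : ∀ u v, σ (B u v) = B v u := fun u v => by rw [hB, hB, htr, map_mul τ, hττ, mul_comm]
  have hsep : B.SeparatingLeft := fun u hu => by
    have h1 : τ u = 0 := (traceForm_nondegenerate F L).1 (τ u) fun w => by
      rw [Algebra.traceForm_apply, mul_comm, ← hB]; exact hu w
    rw [← hττ u, h1, map_zero]
  obtain ⟨b₀, hb₀⟩ := Cfsg.Agent.S0755.result (σ : F →+* F)
    (fun h => sigma_ne hF hσ (RingEquiv.ext fun a => RingHom.congr_fun h a))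
    (sigma_sigma hF hσ) B ⟨fun u v => hsym u v⟩ ⟨hsep, fun v hv => hsep v fun w => by rw [← hsym w v, hv w, map_zero]⟩
  let b := b₀.reindex (finCongr hfr)
  have hb : ∀ i j, B (b i) (b j) = if i = j then 1 else 0 := fun i j => by
    simp only [b, Module.Basis.reindex_apply, hb₀]
    exact if_congr (Equiv.apply_eq_iff_eq _) rfl rfl
  obtain ⟨u, hu⟩ := CfsgLib.UnitarySpec.exists_orderOf_eq_of_dvd (G := Lˣ) (d := q ^ n + 1) (by
    rw [Nat.card_units, Nat.card_eq_fintype_card, hcardL, two_mul, pow_add,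
      show q ^ n * q ^ n - 1 = (q ^ n + 1) * (q ^ n - 1) by rw [← Nat.sq_sub_sq, one_pow, sq]]
    exact dvd_mul_right _ _)
  have hux : (u : L) * τ (u : L) = 1 := by
    rw [hτ, ← pow_succ', ← hu, ← Units.val_pow_eq_pow_val, pow_orderOf_eq_one, Units.val_one]
  set M := Algebra.leftMulMatrix b (u : L) with hM
  have hU : IsU σ 1 M := by
    show _ = _
    ext i j
    have hx : ∀ i, (u : L) * b i = ∑ l, M l i • b l := fun i => by
      conv_lhs => rw [← b.sum_repr ((u : L) * b i)]
      exact Finset.sum_congr rfl fun l _ => by rw [hM, Algebra.leftMulMatrix_eq_repr_mul]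
    have h1 : B ((u : L) * b j) ((u : L) * b i) = B (b j) (b i) := by
      rw [hB, hB, map_mul τ, show (u : L) * b i * (τ (u : L) * τ (b j)) = ((u : L) * τ (u : L)) * (b i * τ (b j)) by ring,
        hux, one_mul]
    rw [hx, hx, hb] at h1
    simp only [map_sum, map_smulₛₗ, LinearMap.sum_apply, LinearMap.smul_apply, hb, RingHom.id_apply,
      RingEquiv.coe_toRingHom, RingHom.coe_coe, smul_eq_mul, mul_ite, mul_one, mul_zero, Finset.sum_ite_eq',
      Finset.mem_univ, if_true] at h1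
    rw [Matrix.mul_one, Matrix.mul_apply, Matrix.one_apply]
    simp only [transpose_apply, Matrix.map_apply]
    refine Eq.trans ?_ (h1.trans (if_congr eq_comm rfl rfl))
    exact Finset.sum_congr rfl fun l _ => by ring
  obtain ⟨g, hg, hgo⟩ := exists_gu_of_isU hF hσ M hU
  refine ⟨g, ?_⟩
  rw [hgo, hM, ← hu, ← orderOf_units]
  exact orderOf_injective (Algebra.leftMulMatrix b).toRingHom.toMonoidHom (Algebra.leftMulMatrix_injective b) (u : L)

include hF in
/-- A cycle on a totally singular subspace and its dual. -/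
theorem exists_pair {m : ℕ} (hm : 1 ≤ m) : ∃ g : Cfsg.GU (m + m) F q, orderOf g = q ^ (2 * m) - 1 := by
  classical
  obtain ⟨L, _, _, _, φ, hfr, hcardL, hφ, -⟩ := CfsgLib.KnownSimple.exists_extension_matrix (F := F) m hm
  rw [hF, ← pow_mul] at hcardL
  obtain ⟨u, hu⟩ := IsCyclic.exists_ofOrder_eq_natCard (α := Lˣ)
  rw [Nat.card_units, Nat.card_eq_fintype_card, hcardL] at hu
  set A := φ (u : L) with hA
  have hAo : orderOf A = q ^ (2 * m) - 1 := by
    rw [hA, ← hu, ← orderOf_units]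
    exact orderOf_injective φ.toRingHom.toMonoidHom hφ (u : L)
  set k := q ^ (2 * m) - 1 with hk
  have hAk : A ^ k = 1 := by rw [← hAo]; exact pow_orderOf_eq_one A
  have hk0 : k ≠ 0 := by
    have := Nat.one_lt_pow (show 2 * m ≠ 0 by omega) (show 1 < q by have := two_le_q hF; omega)
    omega
  have hSk : GUConj.starQ q A ^ k = 1 := by rw [← SUSemisimple.starQ_pow hF, hAk, GUConj.starQ_one hF]
  have hSu : IsUnit (GUConj.starQ q A) := IsUnit.of_pow_eq_one hSk hk0
  obtain ⟨C, hC⟩ : ∃ C, C = (GUConj.starQ q A)⁻¹ := ⟨_, rfl⟩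
  have hCS : C * GUConj.starQ q A = 1 := by
    rw [hC]; exact Matrix.nonsing_inv_mul _ ((Matrix.isUnit_iff_isUnit_det _).1 hSu)
  have hSC : GUConj.starQ q A * C = 1 := mul_eq_one_comm.1 hCS
  have hCk : C ^ k = 1 := by rw [hC, Matrix.inv_pow', hSk, inv_one]
  let e : Fin m ⊕ Fin m ≃ Fin (m + m) := finSumFinEquiv
  set M := Matrix.reindexAlgEquiv F F e (fromBlocks A 0 0 C) with hM
  have hMk : M ^ k = 1 := by rw [hM, ← map_pow, fromBlocks_diagonal_pow, hAk, hCk, fromBlocks_one, map_one]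
  obtain ⟨Mu, hMu⟩ : IsUnit M := IsUnit.of_pow_eq_one hMk hk0
  set P := Matrix.reindexAlgEquiv F F e (fromBlocks 0 1 1 0) with hP
  have hPP : P * P = 1 := by rw [hP, ← map_mul, fromBlocks_multiply]; simp [fromBlocks_one]
  have hinv : (GUConj.starQ q (Mu : Matrix (Fin (m + m)) (Fin (m + m)) F))⁻¹ =
      Matrix.reindexAlgEquiv F F e (fromBlocks C 0 0 A) := by
    refine Matrix.inv_eq_right_inv ?_
    have hsC : GUConj.starQ q C * A = 1 := by
      conv_lhs => rw [← GUConj.starQ_starQ hF A]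
      rw [← GUConj.starQ_mul hF, hSC, GUConj.starQ_one hF]
    rw [hMu, hM, SUSemisimple.starQ_reindex hF, ← map_mul, fromBlocks_multiply]
    simp [hsC, hSC, fromBlocks_one]
  obtain ⟨B, hB⟩ := (GUConj.exists_conj_mem_gu_iff hF Mu).2 (by
    rw [hinv, hMu]
    refine ⟨⟨P, P, hPP, hPP⟩, ?_⟩
    show P * M = _ * P
    rw [hP, hM, ← map_mul, ← map_mul, fromBlocks_multiply, fromBlocks_multiply]
    simp)
  refine ⟨B, ?_⟩
  have h1 : orderOf (B : GL (Fin (m + m)) F) = orderOf Mu := by
    obtain ⟨c, hc⟩ := isConj_iff.1 hB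
    rw [← hc]
    exact orderOf_injective (MulAut.conj c).toMonoidHom (MulAut.conj c).injective Mu
  rw [← Subgroup.orderOf_coe, h1, ← orderOf_units, hMu, hM]
  refine Nat.dvd_antisymm (orderOf_dvd_of_pow_eq_one (by rw [← map_pow, fromBlocks_diagonal_pow, hAk, hCk, fromBlocks_one, map_one])) ?_
  rw [← hAo]
  refine orderOf_dvd_of_pow_eq_one ?_
  have h2 := pow_orderOf_eq_one (Matrix.reindexAlgEquiv F F e (fromBlocks A 0 0 C))
  rw [← map_pow, fromBlocks_diagonal_pow, ← map_one (Matrix.reindexAlgEquiv F F e)] at h2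
  exact ((fromBlocks_inj (D := C ^ _) (D' := (1 : Matrix (Fin m) (Fin m) F))).1
    (((Matrix.reindexAlgEquiv F F e).injective h2).trans fromBlocks_one.symm)).1

include hF in
theorem center_scalar {n : ℕ} (hn : 2 ≤ n) {g : Cfsg.GU n F q} (hg : g ∈ Subgroup.center (Cfsg.GU n F q)) :
    ∃ c : F, guMat n F q g = scalar (Fin n) c := by
  refine ⟨_, eq_scalar_of_commute hF hn _ fun s => ?_⟩
  have h := Subgroup.mem_center_iff.1 hg
    ⟨Matrix.SpecialLinearGroup.toGL (s : Matrix.SpecialLinearGroup (Fin n) F), s.2⟩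
  exact congrArg (guMat n F q) h

omit [Fintype F] in
theorem mem_center_of_scalar {n : ℕ} {g : Cfsg.GU n F q} {c : F} (hg : guMat n F q g = scalar (Fin n) c) :
    g ∈ Subgroup.center (Cfsg.GU n F q) :=
  Subgroup.mem_center_iff.2 fun h => guMat_injective n (by
    rw [map_mul, map_mul, hg]
    exact ((Matrix.scalar_commute c (fun r => mul_comm c r) (guMat n F q h)).eq).symm)

include hF in
/-- Two blocks, the second with an eigenvalue one. -/
theorem exists_block {a b : ℕ} (ha : 1 ≤ a) (hb : 1 ≤ b) {p : ℕ} [Fact p.Prime] [CharP F p]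
    (A : Cfsg.GU a F q) (B : Cfsg.GU b F q) {j : ℕ} (hBj : B ^ p ^ j = 1) :
    ∃ g : Cfsg.GU (a + b) F q ⧸ Subgroup.center (Cfsg.GU (a + b) F q),
      orderOf g = Nat.lcm (orderOf A) (orderOf B) := by
  classical
  haveI : Nonempty (Fin b) := ⟨⟨0, by omega⟩⟩
  let e : Fin a ⊕ Fin b ≃ Fin (a + b) := finSumFinEquiv
  obtain ⟨w, hw0, hw⟩ : ∃ w : Fin b → F, w ≠ 0 ∧ guMat b F q B *ᵥ w = w := by
    have h1 : (guMat b F q B - 1) ^ p ^ j = 0 := by
      rw [sub_pow_char_pow_of_commute p _ (Commute.one_right (guMat b F q B)), ← map_pow, hBj, map_one, one_pow, sub_self]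
    have h2 : (guMat b F q B - 1).det = 0 := by
      have h3 := congrArg Matrix.det h1
      rw [det_pow, det_zero] at h3
      exact (pow_eq_zero_iff (pow_ne_zero _ (Fact.out : p.Prime).ne_zero)).1 h3
    obtain ⟨w, hw0, hw⟩ := Matrix.exists_mulVec_eq_zero_iff.2 h2
    exact ⟨w, hw0, by rwa [sub_mulVec, one_mulVec, sub_eq_zero] at hw⟩
  let Ψ : Cfsg.GU a F q × Cfsg.GU b F q →* Matrix (Fin (a + b)) (Fin (a + b)) F :=
    { toFun := fun x => Matrix.reindexAlgEquiv F F e (fromBlocks (guMat a F q x.1) 0 0 (guMat b F q x.2))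
      map_one' := by simp [fromBlocks_one]
      map_mul' := fun x y => by rw [← map_mul (Matrix.reindexAlgEquiv F F e), fromBlocks_multiply]; simp }
  obtain ⟨g, hg, -⟩ := exists_gu_of_starQ hF (Ψ (A, B)) (by
    show GUConj.starQ q (Matrix.reindexAlgEquiv F F e (fromBlocks (guMat a F q A) 0 0 (guMat b F q B))) *
      Matrix.reindexAlgEquiv F F e (fromBlocks (guMat a F q A) 0 0 (guMat b F q B)) = 1
    rw [SUSemisimple.starQ_reindex hF, ← map_mul, fromBlocks_multiply]
    have hA := (GUConj.mem_gu_iff_starQ hF _).1 A.2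
    have hB := (GUConj.mem_gu_iff_starQ hF _).1 B.2
    simp [hA, hB, fromBlocks_one])
  refine ⟨QuotientGroup.mk' _ g, ?_⟩
  have hpow : ∀ N, guMat (a + b) F q (g ^ N) = Ψ (A ^ N, B ^ N) := fun N => by
    rw [map_pow, hg, ← map_pow, Prod.pow_mk]
  refine Nat.dvd_antisymm (orderOf_dvd_of_pow_eq_one ?_) ?_
  · rw [← map_pow, QuotientGroup.mk'_apply, QuotientGroup.eq_one_iff]
    refine mem_center_of_scalar (c := 1) ?_
    rw [hpow, orderOf_dvd_iff_pow_eq_one.1 (Nat.dvd_lcm_left _ _),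
      orderOf_dvd_iff_pow_eq_one.1 (Nat.dvd_lcm_right _ _), map_one (scalar (Fin (a + b)))]
    exact map_one Ψ
  · set N := orderOf (QuotientGroup.mk' (Subgroup.center (Cfsg.GU (a + b) F q)) g)
    have hc : g ^ N ∈ Subgroup.center (Cfsg.GU (a + b) F q) := by
      rw [← QuotientGroup.eq_one_iff, ← QuotientGroup.mk'_apply, map_pow]
      exact pow_orderOf_eq_one _
    obtain ⟨c, hc⟩ := center_scalar hF (by omega) hc
    rw [hpow, show (scalar (Fin (a + b))) c = algebraMap F (Matrix (Fin (a + b)) (Fin (a + b)) F) c from rfl,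
      ← (Matrix.reindexAlgEquiv F F e).commutes c] at hc
    have h4 := (Matrix.reindexAlgEquiv F F e).injective hc
    have h5 : algebraMap F (Matrix (Fin a ⊕ Fin b) (Fin a ⊕ Fin b) F) c =
        fromBlocks (algebraMap F _ c) 0 0 (algebraMap F _ c) := by
      ext (i | i) (j | j) <;> simp [Matrix.algebraMap_matrix_apply]
    rw [h5, fromBlocks_inj] at h4
    have hc1 : c = 1 := by
      have hfix : guMat b F q (B ^ N) *ᵥ w = w := by
        rw [map_pow]
        induction N with
        | zero => rw [pow_zero, one_mulVec]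
        | succ k ih => rw [pow_succ, ← mulVec_mulVec, hw, ih]
      rw [h4.2.2.2, Algebra.algebraMap_eq_smul_one, smul_mulVec, one_mulVec] at hfix
      obtain ⟨i, hi⟩ := Function.ne_iff.1 hw0
      exact mul_right_cancel₀ hi ((congrFun hfix i).trans (one_mul _).symm)
    rw [hc1, map_one, map_one] at h4
    refine Nat.lcm_dvd (orderOf_dvd_of_pow_eq_one (guMat_injective a ?_))
      (orderOf_dvd_of_pow_eq_one (guMat_injective b ?_))
    · rw [h4.1, map_one]
    · rw [h4.2.2.2, map_one]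

include hF hσ in
/-- A unipotent element of order four in dimension three, characteristic two. -/
theorem exists_four [CharP F 2] : ∃ g : Cfsg.GU 3 F q, orderOf g = 4 := by
  obtain ⟨s, hs⟩ := exists_unipotent_two (F := F) hF hσ (j := 1) (m := 1) le_rfl rfl
  obtain ⟨g, hg, hgo⟩ := exists_gu_of_isU hF hσ _ ((mem_SU_iff hσ _).1 s.2)
  have h4 : 4 ∣ orderOf g := by
    rw [hgo]
    refine hs.trans (dvd_of_eq ?_)
    exact (orderOf_injective ((slToMat 3 F).comp (Cfsg.SU 3 F q).subtype)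
      (fun a b h => Subtype.ext (Subtype.ext h)) s).symm
  obtain ⟨k, hk⟩ := h4
  have hk0 : k ≠ 0 := by rintro rfl; exact (orderOf_pos g).ne' (by rw [hk, mul_zero])
  refine ⟨g ^ k, ?_⟩
  rw [orderOf_pow_of_dvd hk0 (hk ▸ dvd_mul_left _ _), hk, Nat.mul_div_cancel _ (Nat.pos_of_ne_zero hk0)]

include hF hσ in
/-- A unipotent element of order `p` in dimension two. -/
theorem exists_p {p : ℕ} [Fact p.Prime] [CharP F p] : ∃ g : Cfsg.GU 2 F q, orderOf g = p := by
  obtain ⟨s, hs⟩ := exists_unipotent_even (F := F) hF hσ (p := p) (m := 1) (n := 2) le_rfl rfl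
  obtain ⟨g, hg, hgo⟩ := exists_gu_of_isU hF hσ _ ((mem_SU_iff hσ _).1 s.2)
  refine ⟨g, ?_⟩
  rw [hgo, show orderOf (s.1 : Matrix (Fin 2) (Fin 2) F) = orderOf s from
    orderOf_injective ((slToMat 2 F).comp (Cfsg.SU 2 F q).subtype) (fun a b h => Subtype.ext (Subtype.ext h)) s, hs,
    Nat.clog_of_two_le (Fact.out : p.Prime).one_lt le_rfl, Nat.clog_of_right_le_one (by
      exact Nat.le_of_lt_succ ((Nat.div_lt_iff_lt_mul (Fact.out : p.Prime).pos).2 (by
        have := (Fact.out : p.Prime).two_le; omega))) _]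
  exact pow_one p

end CfsgLib.Known.PGUOrder
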